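import Groth.Agent.Krr.H451.Residue
import Mathlib.RingTheory.PowerSeries.Trunc
import Mathlib.RingTheory.TensorProduct.Basic
import Mathlib.RingTheory.Localization.Away.Basic
import Mathlib.RingTheory.Localization.Integral
import Mathlib.RingTheory.Nilpotent.Lemmas

/-!
# Evaluation of power series at a nilpotent element and the Adams–Riemann–Roch computation for `Pⁿ`
-/

set_option autoImplicit false

open Finset
open scoped TensorProduct

universe v w

namespace Groth.Agent.Krr.H451.AlgPn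

section ev

variable {R T : Type*} [CommRing R] [CommRing T] [Algebra R T]

/-- evaluation of a power series at an element `h` with `h^(n+1) = 0` -/
noncomputable def ev (n : ℕ) (h : T) (F : PowerSeries R) : T :=
  Polynomial.aeval h (PowerSeries.trunc (n + 1) F)

theorem ev_eq_sum (n : ℕ) (h : T) (F : PowerSeries R) :
    ev n h F = ∑ i ∈ range (n + 1), algebraMap R T (PowerSeries.coeff i F) * h ^ i := by
  rw [ev, Polynomial.aeval_eq_sum_range' (n := n + 1)]
  · refine sum_congr rfl fun i hi => ?_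
    rw [PowerSeries.coeff_trunc, if_pos (mem_range.mp hi), Algebra.smul_def]
  · exact PowerSeries.natDegree_trunc_lt F n

theorem ev_coe (n : ℕ) (h : T) (hh : h ^ (n + 1) = 0) (p : Polynomial R) :
    ev n h (p : PowerSeries R) = Polynomial.aeval h p := by
  have hd : (Polynomial.X : Polynomial R) ^ (n + 1) ∣
      p - PowerSeries.trunc (n + 1) (p : PowerSeries R) := by
    rw [Polynomial.X_pow_dvd_iff]
    intro d hd
    rw [Polynomial.coeff_sub, PowerSeries.coeff_trunc, if_pos hd, Polynomial.coeff_coe, sub_self]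
  obtain ⟨r, hr⟩ := hd
  have h1 := congrArg (Polynomial.aeval h) hr
  rw [map_sub, map_mul, map_pow, Polynomial.aeval_X, hh, zero_mul, sub_eq_zero] at h1
  exact h1.symm

theorem ev_mul (n : ℕ) (h : T) (hh : h ^ (n + 1) = 0) (F G : PowerSeries R) :
    ev n h (F * G) = ev n h F * ev n h G := by
  rw [ev, ← PowerSeries.trunc_trunc_mul_trunc, ← Polynomial.coe_mul]
  change ev n h _ = _
  rw [ev_coe n h hh, map_mul]
  rfl

theorem ev_one (n : ℕ) (h : T) (hh : h ^ (n + 1) = 0) : ev n h (1 : PowerSeries R) = 1 := by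
  rw [← Polynomial.coe_one, ev_coe n h hh, map_one]

theorem ev_add (n : ℕ) (h : T) (F G : PowerSeries R) :
    ev n h (F + G) = ev n h F + ev n h G := by
  rw [ev, map_add, map_add]; rfl

theorem ev_zero (n : ℕ) (h : T) : ev n h (0 : PowerSeries R) = 0 := by
  rw [ev, map_zero, map_zero]

/-- the evaluation as a ring homomorphism -/
noncomputable def evHom (n : ℕ) (h : T) (hh : h ^ (n + 1) = 0) : PowerSeries R →+* T where
  toFun := ev n h
  map_one' := ev_one n h hh
  map_mul' := ev_mul n h hh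
  map_zero' := ev_zero n h
  map_add' := ev_add n h

@[simp]
theorem evHom_apply (n : ℕ) (h : T) (hh : h ^ (n + 1) = 0) (F : PowerSeries R) :
    evHom n h hh F = ev n h F := rfl

theorem evHom_X (n : ℕ) (h : T) (hh : h ^ (n + 1) = 0) :
    evHom (R := R) n h hh PowerSeries.X = h := by
  rw [evHom_apply, ← Polynomial.coe_X, ev_coe n h hh, Polynomial.aeval_X]

end ev

section loc

/-- `ℤ[1/j]` is torsion-free -/
theorem loc_torsionFree (j : ℕ) (hj : 1 ≤ j) (s : ℕ) (x : Localization.Away (j : ℤ))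
    (h : ((s + 1 : ℕ) : Localization.Away (j : ℤ)) * x = 0) : x = 0 := by
  have hj0 : (j : ℤ) ≠ 0 := by positivity
  have hle : Submonoid.powers (j : ℤ) ≤ nonZeroDivisors ℤ :=
    powers_le_nonZeroDivisors_of_noZeroDivisors hj0
  have hdom : IsDomain (Localization.Away (j : ℤ)) := IsLocalization.isDomain_localization hle
  rcases mul_eq_zero.mp h with h | h
  · exfalso
    have h1 : algebraMap ℤ (Localization.Away (j : ℤ)) ((s + 1 : ℕ) : ℤ) = algebraMap ℤ _ 0 := by
      rw [map_zero, map_natCast]; exact h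
    have h2 := IsLocalization.injective (Localization.Away (j : ℤ)) hle h1
    omega
  · exact h

/-- `j` is invertible in `ℤ[1/j]` -/
theorem isUnit_natCast_loc (j : ℕ) : IsUnit ((j : ℕ) : Localization.Away (j : ℤ)) := by
  have h := IsLocalization.Away.algebraMap_isUnit (S := Localization.Away (j : ℤ)) (j : ℤ)
  rwa [map_natCast] at h

end loc

section main

variable {KP KY : Type v} [CommRing KP] [CommRing KY]

/-- The Adams–Riemann–Roch computation for `Pⁿ`: abstract form, over a torsion-free coefficient ring `R` in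
which `j` is invertible. -/
theorem adams_pushPr_alg {R : Type w} [CommRing R]
    (q : KY →+* KP) (g : KP →+ KY) (ψP : KP →+ KP) (ψY : KY →+ KY) (u : KP)
    (n j : ℕ) (hj : 1 ≤ j) (htf : ∀ (s : ℕ) (x : R), ((s + 1 : ℕ) : R) * x = 0 → x = 0)
    (hju : IsUnit (j : R)) (hnil : (1 - u) ^ (n + 1) = 0)
    (hgen : ∀ x : KP, ∃ y : ℕ → KY, x = ∑ i ∈ range (n + 1), q (y i) * (1 - u) ^ i)
    (hg : ∀ (y : KY) (i : ℕ), i ≤ n → g (q y * (1 - u) ^ i) = y)
    (hψq : ∀ y, ψP (q y) = q (ψY y))
    (hψu : ∀ x, ψP (x * u) = ψP x * u ^ j) (z : KP) :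
    (∃ w : TensorProduct ℤ R KP,
      w * ((1 : R) ⊗ₜ[ℤ] ((∑ k ∈ range j, u ^ k) ^ (n + 1))) = 1) ∧
    ∀ w : TensorProduct ℤ R KP,
      w * ((1 : R) ⊗ₜ[ℤ] ((∑ k ∈ range j, u ^ k) ^ (n + 1))) = 1 →
      (1 : R) ⊗ₜ[ℤ] ψY (g z) =
        LinearMap.lTensor R g.toIntLinearMap
          ((j : TensorProduct ℤ R KP) * ((1 : R) ⊗ₜ[ℤ] ψP z) * w) := by
  let inc : KP →+* R ⊗[ℤ] KP := (Algebra.TensorProduct.includeRight : KP →ₐ[ℤ] R ⊗[ℤ] KP).toRingHom
  have hinc : ∀ x : KP, (1 : R) ⊗ₜ[ℤ] x = inc x := fun x => rfl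
  let h : R ⊗[ℤ] KP := inc (1 - u)
  have hh : h ^ (n + 1) = 0 := by
    change inc (1 - u) ^ (n + 1) = 0
    rw [← map_pow, hnil, map_zero]
  let e : PowerSeries R →+* R ⊗[ℤ] KP := evHom n h hh
  have heX : e PowerSeries.X = inc (1 - u) := evHom_X n h hh
  have he1X : e (1 - PowerSeries.X) = inc u := by
    rw [map_sub, map_one, heX, map_sub, map_one, sub_sub_cancel]
  -- the power series `G = Σ_{k<j} (1-X)^k` and its inverse
  let G : PowerSeries R := ∑ k ∈ range j, (1 - PowerSeries.X : PowerSeries R) ^ k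
  have heG : e G = inc (∑ k ∈ range j, u ^ k) := by
    change e (∑ k ∈ range j, (1 - PowerSeries.X : PowerSeries R) ^ k) = _
    rw [map_sum, map_sum]
    exact sum_congr rfl fun k _ => by rw [map_pow, he1X, map_pow]
  have hGu : IsUnit G := by
    rw [PowerSeries.isUnit_iff_constantCoeff]
    have : PowerSeries.constantCoeff G = (j : R) := by
      change PowerSeries.constantCoeff (∑ k ∈ range j, (1 - PowerSeries.X : PowerSeries R) ^ k) = _
      rw [map_sum, sum_congr rfl (g := fun _ => (1 : R)) (fun k _ => by simp)]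
      simp
    rw [this]
    exact hju
  obtain ⟨Gi, hGi⟩ := hGu.exists_right_inv
  have h1Xu : IsUnit (1 - PowerSeries.X : PowerSeries R) := by
    rw [PowerSeries.isUnit_iff_constantCoeff]
    simp
  obtain ⟨a, ha⟩ := h1Xu.exists_right_inv
  have hW : e (Gi ^ (n + 1)) * inc ((∑ k ∈ range j, u ^ k) ^ (n + 1)) = 1 := by
    rw [map_pow inc, ← heG, ← map_pow, ← map_mul, ← mul_pow, mul_comm Gi G, hGi, one_pow, map_one]
  refine ⟨⟨e (Gi ^ (n + 1)), hW⟩, fun w hw => ?_⟩
  have hwW : w = e (Gi ^ (n + 1)) := by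
    calc w = w * (inc ((∑ k ∈ range j, u ^ k) ^ (n + 1)) * e (Gi ^ (n + 1))) := by
          rw [mul_comm (inc _), hW, mul_one]
      _ = (w * inc ((∑ k ∈ range j, u ^ k) ^ (n + 1))) * e (Gi ^ (n + 1)) := by ring
      _ = _ := by
          have hw' : w * inc ((∑ k ∈ range j, u ^ k) ^ (n + 1)) = 1 := hw
          rw [hw', one_mul]
  -- `ψ^j` on `x (1-u)^i`
  have hψ1 : ∀ (x : KP) (i : ℕ), ψP (x * (1 - u) ^ i) = ψP x * (1 - u ^ j) ^ i := by
    intro x i
    induction i with
    | zero => simp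
    | succ i ih =>
      have : x * (1 - u) ^ (i + 1) = x * (1 - u) ^ i - (x * (1 - u) ^ i) * u := by ring
      rw [this, map_sub, hψu, ih]
      ring
  -- the push-forward of `q(y) F(h)`
  have hpush : ∀ (y : KY) (F : PowerSeries R),
      LinearMap.lTensor R g.toIntLinearMap (inc (q y) * e F) =
        (PowerSeries.coeff n (F * a)) ⊗ₜ[ℤ] y := by
    intro y F
    have h1 : e F = ∑ i ∈ range (n + 1), (PowerSeries.coeff i F) ⊗ₜ[ℤ] ((1 - u) ^ i) := by
      change ev n h F = _
      rw [ev_eq_sum]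
      refine sum_congr rfl fun i _ => ?_
      change (PowerSeries.coeff i F ⊗ₜ[ℤ] (1 : KP)) * (inc (1 - u)) ^ i = _
      rw [← map_pow, ← hinc, Algebra.TensorProduct.tmul_mul_tmul, one_mul, mul_one]
    rw [h1, mul_sum, map_sum]
    have h2 : ∀ i ∈ range (n + 1), LinearMap.lTensor R g.toIntLinearMap
        (inc (q y) * (PowerSeries.coeff i F) ⊗ₜ[ℤ] ((1 - u) ^ i)) =
        (PowerSeries.coeff i F) ⊗ₜ[ℤ] y := by
      intro i hi
      rw [← hinc, Algebra.TensorProduct.tmul_mul_tmul, one_mul, LinearMap.lTensor_tmul]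
      congr 1
      exact hg y i (by have := mem_range.mp hi; omega)
    rw [sum_congr rfl h2, ← TensorProduct.sum_tmul]
    congr 1
    -- coefficients of `F * a`, `a = Σ X^k`
    have hak : ∀ k, PowerSeries.coeff k a = 1 := by
      intro k
      induction k with
      | zero =>
        have := congrArg (PowerSeries.coeff 0) ha
        simpa [sub_mul] using this
      | succ k ih =>
        have := congrArg (PowerSeries.coeff (k + 1)) ha
        rw [sub_mul, one_mul, map_sub, PowerSeries.coeff_succ_X_mul, ih, PowerSeries.coeff_one,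
          if_neg (by omega), sub_eq_zero] at this
        exact this
    rw [PowerSeries.coeff_mul, Nat.sum_antidiagonal_eq_sum_range_succ_mk]
    exact sum_congr rfl fun i _ => by rw [hak, mul_one]
  -- the identity for `z = q(y) (1-u)^i`
  have hbasic : ∀ (y : KY) (i : ℕ), i ≤ n →
      (1 : R) ⊗ₜ[ℤ] ψY (g (q y * (1 - u) ^ i)) = LinearMap.lTensor R g.toIntLinearMap
          ((j : R ⊗[ℤ] KP) * ((1 : R) ⊗ₜ[ℤ] ψP (q y * (1 - u) ^ i)) * w) := by
    intro y i hi
    rw [hg y i hi, hinc, hψ1, hψq, hwW, map_mul inc]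
    have h1 : inc ((1 - u ^ j) ^ i) = e ((PowerSeries.X * G) ^ i) := by
      have h2 : (1 - u ^ j) = (1 - u) * ∑ k ∈ range j, u ^ k := by
        rw [mul_comm, geom_sum_mul_neg]
      rw [map_pow, map_pow, map_mul e, heX, heG, ← map_mul, ← h2]
    rw [h1]
    have h3 : (j : R ⊗[ℤ] KP) * (inc (q (ψY y)) * e ((PowerSeries.X * G) ^ i)) *
        e (Gi ^ (n + 1)) = inc (q (ψY y)) *
          e ((j : PowerSeries R) * ((PowerSeries.X * G) ^ i * Gi ^ (n + 1))) := by
      rw [map_mul e, map_mul e ((PowerSeries.X * G) ^ i), map_natCast]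
      ring
    rw [h3, hpush]
    congr 1
    have h4 : (j : PowerSeries R) * ((PowerSeries.X * G) ^ i * Gi ^ (n + 1)) * a =
        PowerSeries.X ^ i * ((j : PowerSeries R) * a * Gi ^ (n - i + 1)) := by
      have : Gi ^ (n + 1) = Gi ^ i * Gi ^ (n - i + 1) := by rw [← pow_add]; congr 1; omega
      rw [this, mul_pow]
      calc (j : PowerSeries R) * (PowerSeries.X ^ i * G ^ i * (Gi ^ i * Gi ^ (n - i + 1))) * a
          = PowerSeries.X ^ i * ((j : PowerSeries R) * a * Gi ^ (n - i + 1)) * (G * Gi) ^ i := by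
            rw [mul_pow]; ring
        _ = _ := by rw [hGi, one_pow, mul_one]
    rw [h4, PowerSeries.coeff_X_pow_mul', if_pos hi]
    exact (Residue.coeff_key htf j hj Gi hGi a ha (n - i)).symm
  obtain ⟨y, hy⟩ := hgen z
  rw [hy, map_sum, map_sum, TensorProduct.tmul_sum, map_sum, TensorProduct.tmul_sum, mul_sum,
    sum_mul, map_sum]
  exact sum_congr rfl fun i hi => hbasic (y i) i (by have := mem_range.mp hi; omega)

end main

end Groth.Agent.Krr.H451.AlgPn
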