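import Groth.Agent.Krr.H451.LamLine
import Groth.Agent.Krr.H482.PullFinal
import Groth.Agent.Krr.H483.LamTwist
import Groth.Agent.Sga67.PushTwist
import Groth.Agent.Sga67.TwistOver
import Groth.Agent.Ega2.QCohLocal

/-!
# Adams–Riemann–Roch for `Pⁿ_Y → Y` from the structure of `K(Pⁿ_Y)`
-/

set_option autoImplicit false
universe v u

open CategoryTheory CategoryTheory.Limits AlgebraicGeometry LambdaRing Finset
open scoped TensorProduct

namespace Groth.Agent.Krr.H451.Assemble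

open KRR Groth.Agent.Krr.H482.PullLambda Groth.Agent.Books.Lambda1

/-- the class of a free module -/
theorem cl_freeMod {X : Scheme.{u}} {K : Type v} [CommRing K] [LambdaOps K] {P : PosStructure K}
    {φ : SGA6.Kvb X →+ K} (hK : IsModel X K P φ) (m : ℕ) :
    φ (cl X (FlatMod.freeMod X m)) = m := by
  have h := Groth.Agent.Sga67.PushTwist.c_freeMod X m
  have h2 : φ (cl X (FlatMod.freeMod X m)) = φ (m • cl X (Coh.structureModule X)) := congrArg φ h
  rw [h2, map_nsmul, hK.map_one, nsmul_eq_mul, mul_one]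

section

variable {n : ℕ} {Y : Scheme.{u}}
  {KP : Type v} [CommRing KP] [LambdaOps KP] {PP : PosStructure KP}
  {φP : SGA6.Kvb (PY n Y) →+ KP}
  {KY : Type v} [CommRing KY] [LambdaOps KY] {PY' : PosStructure KY} {φY : SGA6.Kvb Y →+ KY}

theorem isFinLocFreeOfRank_twistOver (n : ℕ) (Y : Scheme.{u}) (d : ℤ) :
    FlatMod.IsFinLocFreeOfRank 1 (Twist.twistOver n Y d) :=
  Groth.Agent.Ega2.QCohLocal.isFinLocFreeOfRank_one_iff.2
    (Groth.Agent.Ega3B.ProjFrame.isInvertible_twistOver n d)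

theorem isFinLocFree_twistOver (d : ℤ) : FlatMod.IsFinLocFree (Twist.twistOver n Y d) :=
  isFinLocFree_of_rank (isFinLocFreeOfRank_twistOver n Y d)

/-- `[O(d) ⊗ F] = [O(d)] [F]` -/
theorem cl_twF (hKP : IsModel (PY n Y) KP PP φP) (d : ℤ) {F : (PY n Y).Modules}
    (hF : FlatMod.IsFinLocFree F) :
    φP (cl (PY n Y) (twF n Y d F)) =
      φP (cl (PY n Y) (Twist.twistOver n Y d)) * φP (cl (PY n Y) F) :=
  (hKP.map_mul _ _ (isFinLocFree_twistOver d) hF).symm

theorem isLine_twistOver (hKP : IsModel (PY n Y) KP PP φP) (d : ℤ) :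
    PP.IsLine (φP (cl (PY n Y) (Twist.twistOver n Y d))) := by
  have h1 := isFinLocFreeOfRank_twistOver n Y d
  refine ⟨(hKP.mem_pos_iff _).mpr ⟨1, _, le_rfl, h1, rfl⟩, ?_⟩
  rw [hKP.aug_cl 1 _ h1]; rfl

/-- The class `[p^* O^{n+1} ⊗ O(-1)] = (n+1) [O(-1)]`. -/
theorem cl_q (hKP : IsModel (PY n Y) KP PP φP) (hKY : IsModel Y KY PY' φY) (m : ℕ) (d : ℤ) :
    φP (cl (PY n Y) (twF n Y d ((Scheme.Modules.pullback (pr n Y)).obj (FlatMod.freeMod Y m)))) =
      (m : KP) * φP (cl (PY n Y) (Twist.twistOver n Y d)) := by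
  obtain ⟨q, hq⟩ := exists_isPull (KY := KY) (pr n Y) hKY.bijective φP
  rw [cl_twF hKP d (isFinLocFree_pullback _ (Groth.Agent.Sga67.PushTwist.isFinLocFree_freeMod Y m)),
    ← hq _ (Groth.Agent.Sga67.PushTwist.isFinLocFree_freeMod Y m), cl_freeMod hKY,
    ← pullRingHom_apply hKP hKY hq, map_natCast, mul_comm]

/-- Adams–Riemann–Roch for `p : Pⁿ_Y ⟶ Y`, from the structure of `K(Pⁿ_Y)` and `p_K` on it
(`u = [O(-1)]`). -/
theorem adams_of (hKP : IsModel (PY n Y) KP PP φP) (hKY : IsModel Y KY PY' φY)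
    {q : KY →+ KP} (hq : IsPull (pr n Y) φY φP q) (g : KP →+ KY) (j : ℕ) (hj : 1 ≤ j)
    (u : KP) (hu : u = φP (cl (PY n Y) (Twist.twistOver n Y (-1))))
    (hnil : (1 - u) ^ (n + 1) = 0)
    (hgen : ∀ x : KP, ∃ y : ℕ → KY, x = ∑ i ∈ range (n + 1), q (y i) * (1 - u) ^ i)
    (hg : ∀ (y : KY) (i : ℕ), i ≤ n → g (q y * (1 - u) ^ i) = y) (z : KP) :
    (∃ w : TensorProduct ℤ (Localization.Away (j : ℤ)) KP, w * ((1 : Localization.Away (j : ℤ)) ⊗ₜ[ℤ] KRR.bott PP j (φP (KRR.cl (KRR.PY n Y)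
      (KRR.twF n Y (-1) ((Scheme.Modules.pullback (KRR.pr n Y)).obj (FlatMod.freeMod Y (n + 1))))))) = 1) ∧
    ∀ w : TensorProduct ℤ (Localization.Away (j : ℤ)) KP, w * ((1 : Localization.Away (j : ℤ)) ⊗ₜ[ℤ] KRR.bott PP j (φP (KRR.cl (KRR.PY n Y)
      (KRR.twF n Y (-1) ((Scheme.Modules.pullback (KRR.pr n Y)).obj (FlatMod.freeMod Y (n + 1))))))) = 1 →
    (1 : Localization.Away (j : ℤ)) ⊗ₜ[ℤ] LambdaRing.adams PY' j (g z) =
      LinearMap.lTensor (Localization.Away (j : ℤ)) g.toIntLinearMap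
        ((j : TensorProduct ℤ (Localization.Away (j : ℤ)) KP) * ((1 : Localization.Away (j : ℤ)) ⊗ₜ[ℤ] LambdaRing.adams PP j z) * w) := by
  have hline : PP.IsLine u := hu ▸ isLine_twistOver hKP (-1)
  have hbott : bott PP j (φP (cl (PY n Y) (twF n Y (-1)
      ((Scheme.Modules.pullback (pr n Y)).obj (FlatMod.freeMod Y (n + 1)))))) =
        (∑ k ∈ range j, u ^ k) ^ (n + 1) := by
    rw [cl_q hKP hKY, ← hu]
    exact LamLine.bott_natCast_mul_line PP j (n + 1) hline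
  have hinj : Function.Injective q := by
    intro y y' h
    have h1 := hg y 0 (Nat.zero_le n)
    have h2 := hg y' 0 (Nat.zero_le n)
    rw [← h1, h, h2]
  have hext := Groth.Agent.Krr.H482.PullFinal.isExtension_pull hKP hKY hq hinj
  rw [hbott]
  exact AlgPn.adams_pushPr_alg (pullRingHom hKP hKY hq) g (adamsHom PP j) (adamsHom PY' j) u n j hj
    (AlgPn.loc_torsionFree j hj) (AlgPn.isUnit_natCast_loc j) hnil hgen hg
    (fun y => (map_adams hext j y).symm)
    (fun x => LamLine.adams_mul_of_lam PP hline.2 (fun i => Groth.Agent.Krr.H483.LamTwist.lam_mul_line hKP hline x i) j) z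

end

end Groth.Agent.Krr.H451.Assemble
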