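import Groth.Agent.Krr.H491.Bott
import Groth.Agent.Krr.H451.AlgPn

/-!
# Adams operations and multiplication by an element `u` with `λ^i(x u) = λ^i(x) u^i`

No splitting hypothesis.
-/

set_option autoImplicit false
universe v w

open Finset LambdaRing

namespace Groth.Agent.Krr.H451.LamLine

open Groth.Agent.Books.Lambda1

variable {K : Type v} [CommRing K] [LambdaOps K]

theorem lamSeries_mul_of_lam {x u : K} (h : ∀ i : ℕ, LambdaOps.lam i (x * u) = LambdaOps.lam i x * u ^ i) :
    lamSeries (x * u) = PowerSeries.rescale u (lamSeries x) := by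
  ext i
  rw [coeff_lamSeries, PowerSeries.coeff_rescale, coeff_lamSeries, h, mul_comm]

theorem R_mul_of_lam {x u : K} (h : ∀ i : ℕ, LambdaOps.lam i (x * u) = LambdaOps.lam i x * u ^ i) :
    R (x * u) = PowerSeries.rescale u (R x) := by
  rw [R, R, lamSeries_mul_of_lam h]
  ext i
  simp only [PowerSeries.coeff_rescale]
  ring

/-- `ψ_t(x u) = ψ_{tu}(x)` if `λ^i(x u) = λ^i(x) u^i` and `ε(u) = 1`. -/
theorem adamsSeries_mul_of_lam (P : PosStructure K) {x u : K} (hu : P.aug u = 1)
    (h : ∀ i : ℕ, LambdaOps.lam i (x * u) = LambdaOps.lam i x * u ^ i) :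
    adamsSeries P (x * u) = PowerSeries.rescale u (adamsSeries P x) := by
  rw [adamsSeries_eq, adamsSeries_eq, R_mul_of_lam h, map_mul, hu, mul_one]
  have hC : PowerSeries.rescale u (PowerSeries.C ((P.aug x : ℤ) : K)) =
      PowerSeries.C ((P.aug x : ℤ) : K) := by
    ext n
    rw [PowerSeries.coeff_rescale, PowerSeries.coeff_C]
    split_ifs with h
    · simp [h]
    · simp
  have hD : PowerSeries.X * PowerSeries.derivative K (PowerSeries.rescale u (R x)) =
      PowerSeries.rescale u (PowerSeries.X * PowerSeries.derivative K (R x)) := by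
    ext n
    rcases n with _ | n
    · simp
    · rw [PowerSeries.coeff_succ_X_mul, PowerSeries.coeff_rescale, PowerSeries.coeff_succ_X_mul,
        PowerSeries.coeff_derivative, PowerSeries.coeff_derivative, PowerSeries.coeff_rescale]
      ring
  have hI : (PowerSeries.rescale u (R x)).invOfUnit 1 =
      PowerSeries.rescale u ((R x).invOfUnit 1) := by
    have h1 : PowerSeries.rescale u (R x) * (PowerSeries.rescale u (R x)).invOfUnit 1 = 1 := by
      rw [← R_mul_of_lam h, R_mul_inv]
    have h2 : PowerSeries.rescale u (R x) * PowerSeries.rescale u ((R x).invOfUnit 1) = 1 := by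
      rw [← map_mul, R_mul_inv, map_one]
    calc (PowerSeries.rescale u (R x)).invOfUnit 1
        = (PowerSeries.rescale u (R x) * PowerSeries.rescale u ((R x).invOfUnit 1)) *
            (PowerSeries.rescale u (R x)).invOfUnit 1 := by rw [h2, one_mul]
      _ = (PowerSeries.rescale u (R x) * (PowerSeries.rescale u (R x)).invOfUnit 1) *
            PowerSeries.rescale u ((R x).invOfUnit 1) := by ring
      _ = _ := by rw [h1, one_mul]
  rw [hI, hD, map_sub (PowerSeries.rescale u), map_mul (PowerSeries.rescale u) (PowerSeries.X * _), hC]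

/-- `ψ^j(x u) = ψ^j(x) u^j` if `λ^i(x u) = λ^i(x) u^i` and `ε(u) = 1`. -/
theorem adams_mul_of_lam (P : PosStructure K) {x u : K} (hu : P.aug u = 1)
    (h : ∀ i : ℕ, LambdaOps.lam i (x * u) = LambdaOps.lam i x * u ^ i) (j : ℕ) :
    adams P j (x * u) = adams P j x * u ^ j := by
  rw [adams, adamsSeries_mul_of_lam P hu h, PowerSeries.coeff_rescale, adams, mul_comm]

/-- Bott's class of `m` times a line element -/
theorem bott_natCast_mul_line (P : PosStructure K) (j m : ℕ) {u : K} (hu : P.IsLine u) :
    KRR.bott P j ((m : K) * u) = (∑ k ∈ range j, u ^ k) ^ m := by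
  have h := Groth.Agent.Krr.H491.Bott.bott_sum_line P j (fun _ : Fin m => u) (fun _ => hu)
  simpa using h

end Groth.Agent.Krr.H451.LamLine
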