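import Groth.Prelude.Def_KRR
import Groth.Agent.Sga67.PullVan
import Groth.Agent.Sga67.TwistOver
import Groth.Agent.CohqA.HDIZero
import Groth.Agent.CohqA.HOpen
import Groth.Agent.S0022

/-!
# Regularity of `O(m) ⊗ p^* E` on `Pⁿ_S`

* `isZero_RpushAb_of_charts`: vanishing of `R^q p_* F` from the vanishing on the charts of `Pⁿ_S`;
* `isRegSheaf_tw`: `O(m) ⊗ p^* E` is regular for `m ≥ 0` and `E` finite locally free.
-/

set_option autoImplicit false
universe u

open CategoryTheory CategoryTheory.Limits AlgebraicGeometry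

namespace Groth.Agent.Krr.H451.PnPush

theorem image_top_chart {n : ℕ} {S : Scheme.{u}} {V : S.Opens} (hV : IsAffineOpen V) :
    (KRR.pr n S) ⁻¹ᵁ V = (Groth.Agent.Ega3A.PChart.chart n hV.fromSpec) ''ᵁ ⊤ := by
  have h := Groth.Agent.Ega3A.PChart.isPullback_chart n hV.fromSpec
  have h1 := Scheme.image_preimage_eq_of_isPullback h.flip (Set.univ)
  apply TopologicalSpace.Opens.ext
  have h2 : Set.range hV.fromSpec.base = (V : Set S) := hV.range_fromSpec
  have h3 : (KRR.pr n S).base ⁻¹' (hV.fromSpec.base '' Set.univ) = (KRR.pr n S).base ⁻¹' (V : Set S) := by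
    rw [Set.image_univ, h2]
  exact (h1.trans h3).symm

theorem isZero_RpushAb_of_charts {n : ℕ} {S : Scheme.{u}} (F : (KRR.PY n S).Modules) (q : ℕ)
    (h : ∀ (V : S.Opens) (hV : IsAffineOpen V), Subsingleton (Coh.HH (CohB1.ProjSpace n Γ(S, V))
      (F.restrict (Groth.Agent.Ega3A.PChart.chart n hV.fromSpec)) q)) :
    IsZero ((Coh.RpushAb (KRR.pr n S) q).obj (Coh.toAb F)) := by
  refine Groth.Agent.CohqA.HDIZero.isZero_RpushAb (KRR.pr n S) _ q {V | IsAffineOpen V}
    S.isBasis_affineOpens fun V hV => ?_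
  have h1 := h V hV
  exact (Groth.Agent.CohqA.HOpen.HHEquiv (Groth.Agent.Ega3A.PChart.chart n hV.fromSpec) F
    ((KRR.pr n S) ⁻¹ᵁ V) (image_top_chart hV) q).toEquiv.subsingleton

theorem isQCoh_pull {n : ℕ} {S : Scheme.{u}} {V : S.Opens} (hV : IsAffineOpen V) (j : ℤ) (E : S.Modules)
    (hE : FlatMod.IsFinLocFree E) : FlatMod.IsFinLocFree
      ((KRR.twF n S j ((Scheme.Modules.pullback (KRR.pr n S)).obj E)).restrict
        (Groth.Agent.Ega3A.PChart.chart n hV.fromSpec)) := by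
  have h1 : FlatMod.IsFinLocFree (KRR.twF n S j ((Scheme.Modules.pullback (KRR.pr n S)).obj E)) :=
    Groth.Agent.Sga67.TwistOver.isFinLocFree_tw n S j _
      (Groth.Agent.PerfB.FlatPull.isFinLocFree_pullback (KRR.pr n S) hE)
  have h2 := Groth.Agent.PerfB.FlatPull.isFinLocFree_pullback
    (Groth.Agent.Ega3A.PChart.chart n hV.fromSpec) h1
  exact Groth.Agent.Dcoh.FinLocFree.isFinLocFree_of_iso
    ((Scheme.Modules.restrictFunctorIsoPullback _).app _).symm h2

/-- `R^q p_* (O(j) ⊗ p^* E) = 0` for `q ≥ 1`, `j ≥ -q`. -/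
theorem isZero_RpushAb_tw {n : ℕ} {S : Scheme.{u}} {E : S.Modules} (hE : FlatMod.IsFinLocFree E)
    (j : ℤ) (q : ℕ) (hq : 1 ≤ q) (hj : -(q : ℤ) ≤ j) :
    IsZero ((Coh.RpushAb (KRR.pr n S) q).obj
      (Coh.toAb (KRR.twF n S j ((Scheme.Modules.pullback (KRR.pr n S)).obj E)))) := by
  refine isZero_RpushAb_of_charts _ q fun V hV => ?_
  by_cases hqn : q ≤ n
  · exact Groth.Agent.Sga67.PullVan.subsingleton_HH_pullback n hV.fromSpec E hE j q
      (Or.inl ⟨hq, by omega⟩)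
  · have := (isQCoh_pull (n := n) hV j E hE)
    have h3 : Coh.IsQCoh ((KRR.twF n S j ((Scheme.Modules.pullback (KRR.pr n S)).obj E)).restrict
        (Groth.Agent.Ega3A.PChart.chart n hV.fromSpec)) := by
      exact Groth.Agent.Ega2.QCohLocal.isQCoh_of_isFinLocFree this
    exact Groth.Agent.S0022.result n _ _ q (by omega)

/-- `O(m) ⊗ p^* E` is regular for `m ≥ 0`. -/
theorem isRegSheaf_tw {n : ℕ} {S : Scheme.{u}} {E : S.Modules} (hE : FlatMod.IsFinLocFree E) (m : ℕ) :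
    KRR.IsRegSheaf n S (KRR.twF n S m ((Scheme.Modules.pullback (KRR.pr n S)).obj E)) := by
  intro i hi
  obtain ⟨e⟩ := Groth.Agent.Sga67.TwistOver.nonempty_tw_tw n S (-(i : ℤ)) m
    ((Scheme.Modules.pullback (KRR.pr n S)).obj E)
  have h1 := isZero_RpushAb_tw (n := n) hE (-(i : ℤ) + m) i hi (by omega)
  exact IsZero.of_iso h1 ((Coh.RpushAb (KRR.pr n S) i).mapIso
    ((SheafOfModules.toSheaf (KRR.PY n S).ringCatSheaf).mapIso e))

end Groth.Agent.Krr.H451.PnPush
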