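import Groth.Agent.Ega3A.BinomLemma
import Mathlib.Algebra.Ring.GeomSum
import Mathlib.Data.Nat.Choose.Sum
import Mathlib.Tactic.LinearCombination
import Mathlib.Tactic.Ring

/-!
# The structure of `K(Pⁿ)` in terms of `h = 1 - [O(-1)]`: abstract form

`q : KY →+* KP`, `g : KP →+ KY`, `l u = 1`, every `x` is `∑_{i ≤ n} q(y_i) l^i` and
`g (q y * l^m) = C(m+n, n) y` for `m ≥ 0`.  Then `(1-u)^(n+1) = 0`, every `x` is `∑_{i ≤ n} q(y_i) (1-u)^i`
and `g (q y * (1-u)^i) = y` for `i ≤ n`; `g (q y * u^k) = 0` for `1 ≤ k ≤ n`.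
-/

set_option autoImplicit false

open Finset

namespace Groth.Agent.Krr.H451.PnStruct

variable {KP KY : Type*} [CommRing KP] [CommRing KY] (q : KY →+* KP) (g : KP →+ KY) (l u : KP) (n : ℕ)

/-- the alternating sum of binomials, as in `Ega3A.BinomLemma.koszul_num` -/
theorem alt_sum (r s : ℕ) : ∑ k ∈ range (r + 2), (-1 : ℤ) ^ k * ((r + 1).choose k : ℤ) *
    ((s + r + 1 - k).choose r : ℤ) = 0 := by
  rw [sum_range_succ']
  have h := Groth.Agent.Ega3A.BinomLemma.koszul_num r s
  have h2 : ∑ k ∈ range (r + 1), (-1 : ℤ) ^ (k + 1) * ((r + 1).choose (k + 1) : ℤ) *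
      ((s + r + 1 - (k + 1)).choose r : ℤ) = - ∑ i ∈ range (r + 1), (-1 : ℤ) ^ i *
        ((r + 1).choose (i + 1) : ℤ) * ((s + r - i).choose r : ℤ) := by
    rw [← sum_neg_distrib]
    refine sum_congr rfl fun k hk => ?_
    have : s + r + 1 - (k + 1) = s + r - k := by omega
    rw [this, pow_succ]
    ring
  rw [h2, ← h]
  simp

variable {q g l u n}

theorem sub_one_pow_mul (hlu : l * u = 1) (s : ℕ) :
    (1 - u) ^ (n + 1) * l ^ (s + (n + 1)) =
      ∑ k ∈ range (n + 2), ((-1 : ℤ) ^ k * ((n + 1).choose k : ℤ) : ℤ) • l ^ (s + n + 1 - k) := by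
  have h1 : (1 - u) ^ (n + 1) * l ^ (s + (n + 1)) = l ^ s * (l + -1) ^ (n + 1) := by
    have : (l + -1) = (1 - u) * l := by linear_combination hlu
    rw [this, mul_pow, pow_add]
    ring
  rw [h1, add_comm l, add_pow, mul_sum]
  refine sum_congr rfl fun k hk => ?_
  have hk' : k ≤ n + 1 := by have := mem_range.mp hk; omega
  rw [zsmul_eq_mul]
  push_cast
  have h2 : s + n + 1 - k = s + (n + 1 - k) := by omega
  rw [h2, pow_add]
  ring

section

variable (hlu : l * u = 1) (hb : ∀ x : KP, ∃ y : ℕ → KY, x = ∑ i ∈ range (n + 1), q (y i) * l ^ i)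
  (hp : ∀ (y : KY) (m : ℕ), g (q y * l ^ m) = (m + n).choose n • y)

include hb hp in
/-- non-degeneracy of `z ↦ (m ↦ g (z l^m))` -/
theorem eq_zero_of_push (z : KP) (N : ℕ) (h : ∀ m, N ≤ m → g (z * l ^ m) = 0) : z = 0 := by
  obtain ⟨y, hy⟩ := hb z
  have hyi := Groth.Agent.Ega3A.BinomLemma.eq_zero n y (N + n) (fun M hM => by
    have h1 := h (M - n) (by omega)
    rw [hy, sum_mul, map_sum] at h1
    rw [← h1]
    refine sum_congr rfl fun i hi => ?_
    rw [mul_assoc, ← pow_add, hp]
    congr 2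
    omega)
  rw [hy]
  exact sum_eq_zero fun i hi => by rw [hyi i (mem_range.mp hi), map_zero, zero_mul]

include hlu hb hp in
theorem pow_eq_zero : (1 - u) ^ (n + 1) = 0 := by
  refine eq_zero_of_push hb hp _ (n + 1) fun m hm => ?_
  obtain ⟨s, rfl⟩ : ∃ s, m = s + (n + 1) := ⟨m - (n + 1), by omega⟩
  rw [sub_one_pow_mul hlu, map_sum]
  have h1 : ∀ k ∈ range (n + 2), g (((-1 : ℤ) ^ k * ((n + 1).choose k : ℤ) : ℤ) • l ^ (s + n + 1 - k)) =
      (((-1 : ℤ) ^ k * ((n + 1).choose k : ℤ)) * ((s + n + n + 1 - k).choose n : ℤ)) • (1 : KY) := by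
    intro k hk
    have hk' : k ≤ n + 1 := by have := mem_range.mp hk; omega
    have h2 := hp 1 (s + n + 1 - k)
    rw [map_one, one_mul] at h2
    have : s + n + 1 - k + n = s + n + n + 1 - k := by omega
    rw [map_zsmul, h2, this, ← natCast_zsmul, smul_smul]
  rw [sum_congr rfl h1, ← sum_smul]
  have h3 := alt_sum n (s + n)
  rw [h3, zero_smul]

include hlu in
theorem l_eq (hnil : (1 - u) ^ (n + 1) = 0) : l = ∑ k ∈ range (n + 1), (1 - u) ^ k := by
  have h1 : (∑ k ∈ range (n + 1), (1 - u) ^ k) * (1 - (1 - u)) = 1 := by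
    rw [geom_sum_mul_neg, hnil, sub_zero]
  have h2 : (1 - (1 - u)) = u := by ring
  rw [h2] at h1
  calc l = ((∑ k ∈ range (n + 1), (1 - u) ^ k) * u) * l := by rw [h1, one_mul]
    _ = (∑ k ∈ range (n + 1), (1 - u) ^ k) * (l * u) := by ring
    _ = _ := by rw [hlu, mul_one]

/-- the subgroup of the elements `∑_{i ≤ n} q(y_i) h^i` -/
def spanH (q : KY →+* KP) (h : KP) (n : ℕ) : AddSubgroup KP where
  carrier := {x | ∃ y : ℕ → KY, x = ∑ i ∈ range (n + 1), q (y i) * h ^ i}
  zero_mem' := ⟨0, by simp⟩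
  add_mem' := by
    rintro _ _ ⟨y, rfl⟩ ⟨y', rfl⟩
    exact ⟨y + y', by simp [add_mul, sum_add_distrib]⟩
  neg_mem' := by
    rintro _ ⟨y, rfl⟩
    exact ⟨-y, by simp [sum_neg_distrib]⟩

theorem mem_spanH_monomial (h : KP) (n : ℕ) (hnil : h ^ (n + 1) = 0) (y : KY) (i : ℕ) :
    q y * h ^ i ∈ spanH q h n := by
  by_cases hi : i ≤ n
  · refine ⟨Pi.single i y, ?_⟩
    rw [sum_eq_single i]
    · simp
    · intro b _ hb
      rw [Pi.single_eq_of_ne hb, map_zero, zero_mul]
    · intro h'
      exact absurd (mem_range.mpr (by omega)) h'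
  · have : h ^ i = 0 := by
      have e : i = (n + 1) + (i - (n + 1)) := by omega
      rw [e, pow_add, hnil, zero_mul]
    rw [this, mul_zero]
    exact zero_mem _

theorem mul_mem_spanH (h : KP) (n : ℕ) (hnil : h ^ (n + 1) = 0) {x : KP} (hx : x ∈ spanH q h n)
    (i : ℕ) : x * h ^ i ∈ spanH q h n := by
  obtain ⟨y, rfl⟩ := hx
  rw [sum_mul]
  refine sum_mem fun k _ => ?_
  rw [mul_assoc, ← pow_add]
  exact mem_spanH_monomial h n hnil _ _

include hlu hb hp in
theorem exists_eq_sum_h (x : KP) : ∃ y : ℕ → KY, x = ∑ i ∈ range (n + 1), q (y i) * (1 - u) ^ i := by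
  have hnil := pow_eq_zero hlu hb hp
  have hl := l_eq hlu hnil
  have hmul : ∀ z ∈ spanH q (1 - u) n, z * l ∈ spanH q (1 - u) n := by
    intro z hz
    rw [hl, mul_sum]
    exact sum_mem fun k _ => mul_mem_spanH _ n hnil hz k
  have hpow : ∀ (y : KY) (i : ℕ), q y * l ^ i ∈ spanH q (1 - u) n := by
    intro y i
    induction i with
    | zero => simpa using mem_spanH_monomial (q := q) (1 - u) n hnil y 0
    | succ i ih => rw [pow_succ, ← mul_assoc]; exact hmul _ ih
  obtain ⟨y, rfl⟩ := hb x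
  exact sum_mem (S := spanH q (1 - u) n) fun i _ => hpow _ _

include hlu hb hp in
/-- `g (q y * u^n * l^s) = C(s, n) y` for all `s ≥ 0`. -/
theorem push_neg (y : KY) (s : ℕ) : g (q y * u ^ n * l ^ s) = s.choose n • y := by
  have hnil := pow_eq_zero hlu hb hp
  -- downward induction
  have key : ∀ d s : ℕ, n ≤ s + d → g (q y * u ^ n * l ^ s) = s.choose n • y := by
    intro d
    induction d with
    | zero =>
      intro s hs
      have h1 : q y * u ^ n * l ^ s = q y * l ^ (s - n) := by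
        have : l ^ s = l ^ n * l ^ (s - n) := by rw [← pow_add]; congr 1; omega
        rw [this]
        have h2 : u ^ n * l ^ n = 1 := by rw [← mul_pow, mul_comm, hlu, one_pow]
        calc q y * u ^ n * (l ^ n * l ^ (s - n)) = q y * (u ^ n * l ^ n) * l ^ (s - n) := by ring
          _ = _ := by rw [h2, mul_one]
      rw [h1, hp]
      congr 2
      omega
    | succ d ih =>
      intro s hs
      have h1 := sub_one_pow_mul (n := n) hlu s
      rw [hnil, zero_mul] at h1
      have h2 : (0 : KY) = ∑ k ∈ range (n + 2), ((-1 : ℤ) ^ k * ((n + 1).choose k : ℤ) : ℤ) •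
          g (q y * u ^ n * l ^ (s + n + 1 - k)) := by
        have h3 := congrArg (fun x => g (q y * u ^ n * x)) h1
        simp only [mul_zero, map_zero, mul_sum, map_sum, mul_smul_comm, map_zsmul] at h3
        exact h3
      have h4 := alt_sum n s
      have h5 : (0 : KY) = ∑ k ∈ range (n + 2), ((-1 : ℤ) ^ k * ((n + 1).choose k : ℤ) : ℤ) •
          ((s + n + 1 - k).choose n • y) := by
        have h6 := congrArg (fun a : ℤ => a • y) h4
        simp only [sum_smul, mul_smul, zero_smul, natCast_zsmul] at h6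
        simp only [mul_smul, natCast_zsmul]
        exact h6.symm
      rw [sum_range_succ] at h2 h5
      have h7 : ∀ k ∈ range (n + 1), g (q y * u ^ n * l ^ (s + n + 1 - k)) =
          (s + n + 1 - k).choose n • y := by
        intro k hk
        have := mem_range.mp hk
        exact ih _ (by omega)
      rw [sum_congr rfl (fun k hk => by rw [h7 k hk])] at h2
      have h8 := h2.symm.trans h5
      have h9 := add_left_cancel h8
      have e : s + n + 1 - (n + 1) = s := by omega
      rw [e, Nat.choose_self, Nat.cast_one, mul_one] at h9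
      rcases neg_one_pow_eq_or ℤ (n + 1) with h | h
      · rw [h, one_smul, one_smul] at h9; exact h9
      · rw [h, neg_one_smul, neg_one_smul] at h9; exact neg_injective h9
  exact key n s (by omega)

include hlu hb hp in
theorem push_u_pow (y : KY) (k : ℕ) (hk : k ≤ n) : g (q y * u ^ k) = if k = 0 then y else 0 := by
  have h1 := push_neg hlu hb hp y (n - k)
  have h2 : q y * u ^ n * l ^ (n - k) = q y * u ^ k := by
    have e : u ^ n = u ^ k * u ^ (n - k) := by rw [← pow_add]; congr 1; omega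
    have h3 : u ^ (n - k) * l ^ (n - k) = 1 := by rw [← mul_pow, mul_comm, hlu, one_pow]
    calc q y * u ^ n * l ^ (n - k) = q y * u ^ k * (u ^ (n - k) * l ^ (n - k)) := by rw [e]; ring
      _ = _ := by rw [h3, mul_one]
  rw [h2] at h1
  rw [h1]
  split_ifs with h
  · subst h; simp
  · rw [Nat.choose_eq_zero_of_lt (by omega), zero_smul]

include hlu hb hp in
theorem push_h_pow (y : KY) (i : ℕ) (hi : i ≤ n) : g (q y * (1 - u) ^ i) = y := by
  have h1 : (1 - u) ^ i = ∑ k ∈ range (i + 1), ((-1 : ℤ) ^ k * (i.choose k : ℤ) : ℤ) • u ^ k := by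
    rw [sub_eq_neg_add, add_pow]
    refine sum_congr rfl fun k _ => ?_
    rw [one_pow, zsmul_eq_mul, neg_pow]
    push_cast
    ring
  rw [h1, mul_sum, map_sum, sum_eq_single 0]
  · have := push_u_pow hlu hb hp y 0 (Nat.zero_le _)
    simpa using this
  · intro k hk hk0
    have := mem_range.mp hk
    rw [mul_smul_comm, map_zsmul, push_u_pow hlu hb hp y k (by omega), if_neg hk0, smul_zero]
  · intro h
    exact absurd (mem_range.mpr (by omega)) h

end

end Groth.Agent.Krr.H451.PnStruct
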