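import Groth.Agent.Krr.H451.Assemble
import Groth.Agent.Krr.H451.PnStruct
import Groth.Agent.Krr.H451.PnPush
import Groth.Agent.Sga67.K0Map
import Groth.Agent.S3197
import Groth.Agent.Sga5.ProjSmooth
import Groth.Agent.Dix.ProjProper
import Mathlib.AlgebraicGeometry.Morphisms.Flat

/-!
# The structure of `K(Pⁿ_Y)` and of `p_K` on models

`l = [O(1)]`, `u = [O(-1)]`: `l u = 1`, every `x` is `∑_{i ≤ n} q(y_i) l^i`, `p_K (q(y) l^m) = C(m+n, n) y`,
and the consequences of `PnStruct`.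
-/

set_option autoImplicit false
universe v u

open CategoryTheory CategoryTheory.Limits AlgebraicGeometry LambdaRing Finset

namespace Groth.Agent.Krr.H451.PnModel

open KRR Groth.Agent.Krr.H482.PullLambda Groth.Agent.Krr.H451.Assemble

theorem flat_pr (n : ℕ) (Y : Scheme.{u}) : Flat (pr n Y) := by
  have h : MorphismProperty.IsStableUnderBaseChange
      (@SmoothOfRelativeDimension n : MorphismProperty Scheme.{u}) :=
    smoothOfRelativeDimension_isStableUnderBaseChange n
  have h1 : SmoothOfRelativeDimension n (pr n Y) :=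
    MorphismProperty.of_isPullback (P := @SmoothOfRelativeDimension n)
      (Groth.Agent.Dix.ProjProper.isPullback_toZ n Y)
      (Groth.Agent.Sga5.ProjSmooth.smooth_toSpec n _)
  have h2 : Smooth (pr n Y) := SmoothOfRelativeDimension.smooth n _
  infer_instance

section

variable {n : ℕ} {Y : Scheme.{u}}
  {KP : Type v} [CommRing KP] [LambdaOps KP] {PP : PosStructure KP}
  {φP : SGA6.Kvb (PY n Y) →+ KP}
  {KY : Type v} [CommRing KY] [LambdaOps KY] {PY' : PosStructure KY} {φY : SGA6.Kvb Y →+ KY}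

/-- `[O(a)] [O(b)] = [O(a+b)]` -/
theorem cl_twist_mul (hKP : IsModel (PY n Y) KP PP φP) (a b : ℤ) :
    φP (cl (PY n Y) (Twist.twistOver n Y a)) * φP (cl (PY n Y) (Twist.twistOver n Y b)) =
      φP (cl (PY n Y) (Twist.twistOver n Y (a + b))) := by
  obtain ⟨e⟩ := Groth.Agent.Sga67.TwistOver.nonempty_twistOver_mul n Y a b
  rw [hKP.map_mul _ _ (isFinLocFree_twistOver a) (isFinLocFree_twistOver b)]
  exact congrArg φP (cl_iso e.symm (isFinLocFree_twistOver (a + b))).symm

theorem cl_twist_zero (hKP : IsModel (PY n Y) KP PP φP) :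
    φP (cl (PY n Y) (Twist.twistOver n Y 0)) = 1 := by
  obtain ⟨e⟩ := Groth.Agent.Sga67.TwistOver.nonempty_twistOver_zero n Y
  rw [← hKP.map_one]
  exact congrArg φP (cl_iso e (isFinLocFree_twistOver 0))

theorem cl_twist_one_mul_neg_one (hKP : IsModel (PY n Y) KP PP φP) :
    φP (cl (PY n Y) (Twist.twistOver n Y 1)) * φP (cl (PY n Y) (Twist.twistOver n Y (-1))) = 1 := by
  rw [cl_twist_mul hKP, show (1 : ℤ) + -1 = 0 from rfl, cl_twist_zero hKP]

theorem cl_twist_natCast (hKP : IsModel (PY n Y) KP PP φP) (m : ℕ) :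
    φP (cl (PY n Y) (Twist.twistOver n Y (m : ℤ))) =
      φP (cl (PY n Y) (Twist.twistOver n Y 1)) ^ m := by
  induction m with
  | zero => rw [pow_zero]; exact cl_twist_zero hKP
  | succ m ih => rw [pow_succ, ← ih, cl_twist_mul hKP, Nat.cast_succ]

/-- `p_K (q(y) l^m) = C(m+n, n) y` for `m ≥ 0`. -/
theorem push_mul_pow (hKP : IsModel (PY n Y) KP PP φP) (hKY : IsModel Y KY PY' φY)
    {q : KY →+ KP} (hq : IsPull (pr n Y) φY φP q) {g : KP →+ KY} (hg : IsPushPr n Y φP φY g)
    (y : KY) (m : ℕ) :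
    g (q y * φP (cl (PY n Y) (Twist.twistOver n Y 1)) ^ m) = (m + n).choose n • y := by
  refine model_induction hKY (C := fun y => g (q y * φP (cl (PY n Y) (Twist.twistOver n Y 1)) ^ m) =
    (m + n).choose n • y) (fun r E _ hE => ?_) (fun a b ha hb => ?_) y
  · have hE' := isFinLocFree_of_rank hE
    have hpE := isFinLocFree_pullback (pr n Y) hE'
    have h3 : FlatMod.IsFinLocFree (twF n Y m ((Scheme.Modules.pullback (pr n Y)).obj E)) :=
      Groth.Agent.Sga67.TwistOver.isFinLocFree_tw n Y m _ hpE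
    rw [hq E hE', ← cl_twist_natCast hKP, mul_comm, ← cl_twF hKP m hpE,
      hg _ h3 (PnPush.isRegSheaf_tw hE' m)]
    have h := Groth.Agent.Sga67.PushTwist.clSub_push_tw_pull n Y m hE'
    exact (congrArg φY h).trans (map_nsmul φY _ _)
  · rw [map_sub, sub_mul, map_sub, ha, hb, smul_sub]

/-- every element of `K(Pⁿ_Y)` is `∑_{i ≤ n} q(y_i) l^i` -/
theorem exists_eq_sum_pow [CompactSpace Y] (hKP : IsModel (PY n Y) KP PP φP)
    (hKY : IsModel Y KY PY' φY) {q : KY →+ KP} (hq : IsPull (pr n Y) φY φP q) (x : KP) :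
    ∃ y : ℕ → KY, x = ∑ i ∈ range (n + 1), q (y i) *
      φP (cl (PY n Y) (Twist.twistOver n Y 1)) ^ i := by
  have hflat := flat_pr n Y
  have i1 : PreservesFiniteLimits (Scheme.Modules.pullback (CohB1.ProjSpaceOver.toBase n Y)) :=
    Groth.Agent.PerfB.FlatPull.preservesFiniteLimits_pullback _
  have i2 : ∀ i : ℕ, PreservesFiniteLimits ((DCoh.tensorBi (X := CohB1.ProjSpaceOver n Y)).obj
      (Twist.twistOver n Y (i : ℤ))) :=
    fun i => Groth.Agent.Sga67.TwistOver.preservesFiniteLimits_tw n Y i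
  have i3 : ∀ i : ℕ, PreservesFiniteColimits ((DCoh.tensorBi (X := CohB1.ProjSpaceOver n Y)).obj
      (Twist.twistOver n Y (i : ℤ))) :=
    fun i => Groth.Agent.Sga67.TwistOver.preservesFiniteColimits_tw n Y i
  have hbij := Groth.Agent.S3197.result Y n
    (fun M hM => Groth.Agent.PerfB.FlatPull.isFinLocFree_pullback _ hM)
    (fun i M hM => Groth.Agent.Sga67.TwistOver.isFinLocFree_tw n Y i _ hM)
  obtain ⟨x', rfl⟩ := hKP.bijective.2 x
  obtain ⟨z, rfl⟩ := hbij.2 x'
  refine ⟨fun i => if h : i < n + 1 then φY (z ⟨i, h⟩) else 0, ?_⟩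
  rw [← Fin.sum_univ_eq_sum_range (fun i => q (if h : i < n + 1 then φY (z ⟨i, h⟩) else 0) *
    φP (cl (PY n Y) (Twist.twistOver n Y 1)) ^ i), map_sum]
  refine sum_congr rfl fun i _ => ?_
  rw [dif_pos i.2]
  -- the twist on models
  have h1 : ∀ w : SGA6.Kvb (PY n Y), φP (SGA6.mapSub
      ((DCoh.tensorBi (X := CohB1.ProjSpaceOver n Y)).obj (Twist.twistOver n Y ((i : ℕ) : ℤ)))
      (fun M : (CohB1.ProjSpaceOver n Y).Modules => FlatMod.IsFinLocFree M)
      (fun M : (CohB1.ProjSpaceOver n Y).Modules => FlatMod.IsFinLocFree M)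
      (fun M hM => Groth.Agent.Sga67.TwistOver.isFinLocFree_tw n Y i _ hM) w) =
      φP (cl (PY n Y) (Twist.twistOver n Y 1)) ^ (i : ℕ) * φP w := by
    intro w
    induction w using Groth.Agent.Sga67.KvbRing.K_induction with
    | h0 => rw [map_zero, map_zero, mul_zero]
    | hneg x hx => rw [map_neg, map_neg, map_neg, hx, mul_neg]
    | hadd x y hx hy => rw [map_add, map_add, map_add, hx, hy, mul_add]
    | hc E hE =>
      have h2 := Groth.Agent.Sga67.K0Map.mapSub_clSub
        ((DCoh.tensorBi (X := CohB1.ProjSpaceOver n Y)).obj (Twist.twistOver n Y ((i : ℕ) : ℤ)))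
        (fun M : (CohB1.ProjSpaceOver n Y).Modules => FlatMod.IsFinLocFree M)
        (fun M : (CohB1.ProjSpaceOver n Y).Modules => FlatMod.IsFinLocFree M)
        (fun M hM => Groth.Agent.Sga67.TwistOver.isFinLocFree_tw n Y i _ hM) hE
      rw [← cl_twist_natCast hKP]
      exact (congrArg φP h2).trans (cl_twF hKP _ hE)
  have h2 : ∀ w : SGA6.Kvb Y, φP (SGA6.mapSub
      (Scheme.Modules.pullback (CohB1.ProjSpaceOver.toBase n Y))
      (fun M : Y.Modules => FlatMod.IsFinLocFree M)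
      (fun M : (CohB1.ProjSpaceOver n Y).Modules => FlatMod.IsFinLocFree M)
      (fun M hM => Groth.Agent.PerfB.FlatPull.isFinLocFree_pullback _ hM) w) = q (φY w) := by
    intro w
    induction w using Groth.Agent.Sga67.KvbRing.K_induction with
    | h0 => rw [map_zero, map_zero, map_zero, map_zero]
    | hneg x hx => rw [map_neg, map_neg, map_neg, map_neg, hx]
    | hadd x y hx hy => rw [map_add, map_add, map_add, map_add, hx, hy]
    | hc E hE =>
      have h2 := Groth.Agent.Sga67.K0Map.mapSub_clSub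
        (Scheme.Modules.pullback (CohB1.ProjSpaceOver.toBase n Y))
        (fun M : Y.Modules => FlatMod.IsFinLocFree M)
        (fun M : (CohB1.ProjSpaceOver n Y).Modules => FlatMod.IsFinLocFree M)
        (fun M hM => Groth.Agent.PerfB.FlatPull.isFinLocFree_pullback _ hM) hE
      exact (congrArg φP h2).trans (hq E hE).symm
  exact (h1 _).trans (by rw [h2, mul_comm])

variable [CompactSpace Y] (hKP : IsModel (PY n Y) KP PP φP) (hKY : IsModel Y KY PY' φY)
  {q : KY →+ KP} (hq : IsPull (pr n Y) φY φP q) {g : KP →+ KY} (hg : IsPushPr n Y φP φY g)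

include hKP hKY hq hg

/-- `(1 - [O(-1)])^(n+1) = 0` -/
theorem pow_eq_zero : (1 - φP (cl (PY n Y) (Twist.twistOver n Y (-1)))) ^ (n + 1) = 0 :=
  PnStruct.pow_eq_zero (q := pullRingHom hKP hKY hq) (g := g) (cl_twist_one_mul_neg_one hKP)
    (exists_eq_sum_pow hKP hKY hq) (push_mul_pow hKP hKY hq hg)

/-- every element is `∑_{i ≤ n} q(y_i) (1 - [O(-1)])^i` -/
theorem exists_eq_sum_h (x : KP) : ∃ y : ℕ → KY, x = ∑ i ∈ range (n + 1), q (y i) *
    (1 - φP (cl (PY n Y) (Twist.twistOver n Y (-1)))) ^ i :=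
  PnStruct.exists_eq_sum_h (q := pullRingHom hKP hKY hq) (g := g) (cl_twist_one_mul_neg_one hKP)
    (exists_eq_sum_pow hKP hKY hq) (push_mul_pow hKP hKY hq hg) x

/-- `p_K (q(y) (1 - [O(-1)])^i) = y` for `i ≤ n` -/
theorem push_h_pow (y : KY) (i : ℕ) (hi : i ≤ n) :
    g (q y * (1 - φP (cl (PY n Y) (Twist.twistOver n Y (-1)))) ^ i) = y :=
  PnStruct.push_h_pow (q := pullRingHom hKP hKY hq) (g := g) (cl_twist_one_mul_neg_one hKP)
    (exists_eq_sum_pow hKP hKY hq) (push_mul_pow hKP hKY hq hg) y i hi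

/-- `p_K (q(y) [O(-1)]^k) = 0` for `1 ≤ k ≤ n`, `= y` for `k = 0`. -/
theorem push_u_pow (y : KY) (k : ℕ) (hk : k ≤ n) :
    g (q y * φP (cl (PY n Y) (Twist.twistOver n Y (-1))) ^ k) = if k = 0 then y else 0 :=
  PnStruct.push_u_pow (q := pullRingHom hKP hKY hq) (g := g) (cl_twist_one_mul_neg_one hKP)
    (exists_eq_sum_pow hKP hKY hq) (push_mul_pow hKP hKY hq hg) y k hk

end

end Groth.Agent.Krr.H451.PnModel
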