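import Mathlib.RingTheory.PowerSeries.Basic
import Mathlib.RingTheory.PowerSeries.Inverse
import Mathlib.RingTheory.PowerSeries.Derivative
import Mathlib.RingTheory.PowerSeries.WellKnown
import Mathlib.Algebra.Ring.GeomSum
import Mathlib.Tactic.LinearCombination

/-!
# A residue computation

`R` a commutative ring, torsion-free, `j` invertible in `R`, `g = Σ_{k<j} (1-X)^k ∈ R[[X]]`, so that
`X g = 1 - (1-X)^j`.  Then for every `m`, the coefficient of `X^m` in `j (1-X)⁻¹ g^{-(m+1)}` is `1`.
(This is the invariance of the residue under the change of variable `X ↦ 1 - (1-X)^j`.)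
-/

set_option autoImplicit false

open PowerSeries Finset

namespace Groth.Agent.Krr.H451.Residue

variable {R : Type*} [CommRing R]

/-- the coefficients of `(g + X g') g^{-(s+1)}`, `gi` an inverse of `g` -/
theorem coeff_deriv_mul_pow (htf : ∀ (s : ℕ) (x : R), (s + 1 : ℕ) * x = 0 → x = 0) (g gi : PowerSeries R)
    (hg : g * gi = 1) (s : ℕ) :
    coeff s ((g + X * derivative R g) * gi ^ (s + 1)) = if s = 0 then 1 else 0 := by
  rcases s with _ | s
  · rw [if_pos rfl, zero_add, pow_one, add_mul, hg, map_add, mul_assoc]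
    simp
  · rw [if_neg (by omega)]
    apply htf s
    have hd : derivative R g * gi + g * derivative R gi = 0 := by
      have h := congrArg (derivative R) hg
      rw [Derivation.leibniz, Derivation.map_one_eq_zero] at h
      simp only [smul_eq_mul] at h
      linear_combination h
    have hd2 : derivative R gi = - (derivative R g * gi ^ 2) := by
      have h1 : gi * (derivative R g * gi + g * derivative R gi) = 0 := by rw [hd, mul_zero]
      linear_combination h1 - (derivative R gi) * hg
    have hpow : derivative R (gi ^ (s + 1)) =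
        - (((s + 1 : ℕ) : PowerSeries R) * (derivative R g * gi ^ (s + 2))) := by
      rw [Derivation.leibniz_pow, hd2]
      simp only [smul_eq_mul, Nat.add_sub_cancel]
      rw [← Nat.cast_smul_eq_nsmul (PowerSeries R), smul_eq_mul]
      ring
    have h1 : (g + X * derivative R g) * gi ^ (s + 1 + 1) =
        gi ^ (s + 1) + X * (derivative R g * gi ^ (s + 2)) := by
      have : g * gi ^ (s + 1 + 1) = gi ^ (s + 1) := by
        rw [pow_succ' gi (s + 1), ← mul_assoc, hg, one_mul]
      rw [add_mul, this]
      ring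
    rw [h1, map_add, coeff_succ_X_mul, mul_add]
    have h2 : ((s + 1 : ℕ) : R) * coeff s (derivative R g * gi ^ (s + 2)) =
        - coeff s (derivative R (gi ^ (s + 1))) := by
      rw [hpow, map_neg, neg_neg]
      rw [← map_natCast (C (R := R)), coeff_C_mul]
    rw [h2, coeff_derivative]
    push_cast
    ring

/-- the key coefficient -/
theorem coeff_key (htf : ∀ (s : ℕ) (x : R), (s + 1 : ℕ) * x = 0 → x = 0) (j : ℕ) (hj : 1 ≤ j)
    (gi : PowerSeries R) (hg : (∑ k ∈ range j, (1 - X : PowerSeries R) ^ k) * gi = 1)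
    (a : PowerSeries R) (ha : (1 - X) * a = 1) (m : ℕ) :
    coeff m ((j : PowerSeries R) * a * gi ^ (m + 1)) = 1 := by
  set g : PowerSeries R := ∑ k ∈ range j, (1 - X : PowerSeries R) ^ k with hgdef
  -- `t = X g = 1 - (1-X)^j`
  have ht : X * g = 1 - (1 - X : PowerSeries R) ^ j := by
    have h := geom_sum_mul_neg (1 - X : PowerSeries R) j
    rw [← hgdef] at h
    rw [← h]; ring
  -- derivative of `t`
  have ht' : g + X * derivative R g = (j : PowerSeries R) * (1 - X) ^ (j - 1) := by
    have h := congrArg (derivative R) ht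
    rw [Derivation.leibniz, map_sub, Derivation.leibniz_pow, Derivation.map_one_eq_zero, map_sub,
      Derivation.map_one_eq_zero] at h
    simp only [smul_eq_mul, derivative_X] at h
    rw [← Nat.cast_smul_eq_nsmul (PowerSeries R), smul_eq_mul] at h
    linear_combination h
  have haj : (1 - X : PowerSeries R) ^ j * a ^ j = 1 := by rw [← mul_pow, ha, one_pow]
  have haj' : (1 - X : PowerSeries R) ^ (j - 1) * a ^ j = a := by
    obtain ⟨i, rfl⟩ : ∃ i, j = i + 1 := ⟨j - 1, by omega⟩
    rw [Nat.add_sub_cancel, pow_succ, ← mul_assoc, ← mul_pow, ha, one_pow, one_mul]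
  -- `j a = t' (Σ_{k ≤ m} t^k) + t' t^{m+1} a^j`
  have h1 : (j : PowerSeries R) * a = (g + X * derivative R g) * (∑ k ∈ range (m + 1), (X * g) ^ k) +
      (g + X * derivative R g) * ((X * g) ^ (m + 1) * a ^ j) := by
    have h2 : (∑ k ∈ range (m + 1), (X * g) ^ k) * (1 - X * g) = 1 - (X * g) ^ (m + 1) :=
      geom_sum_mul_neg _ _
    have h3 : (1 - X * g) * a ^ j = 1 := by rw [ht, sub_sub_cancel, haj]
    have h4 : (∑ k ∈ range (m + 1), (X * g) ^ k) + (X * g) ^ (m + 1) * a ^ j = a ^ j := by
      calc (∑ k ∈ range (m + 1), (X * g) ^ k) + (X * g) ^ (m + 1) * a ^ j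
          = (∑ k ∈ range (m + 1), (X * g) ^ k) * ((1 - X * g) * a ^ j) +
              (X * g) ^ (m + 1) * a ^ j := by rw [h3, mul_one]
        _ = ((∑ k ∈ range (m + 1), (X * g) ^ k) * (1 - X * g) + (X * g) ^ (m + 1)) * a ^ j := by
              ring
        _ = a ^ j := by rw [h2]; ring
    rw [← mul_add, h4, ht', mul_assoc, haj']
  have h2 : ∀ k ∈ range (m + 1), (X * g) ^ k * gi ^ (m + 1) = X ^ k * gi ^ (m - k + 1) := by
    intro k hk
    have hk' : k ≤ m := by have := mem_range.mp hk; omega
    have : gi ^ (m + 1) = gi ^ k * gi ^ (m - k + 1) := by rw [← pow_add]; congr 1; omega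
    rw [this, mul_pow]
    calc X ^ k * g ^ k * (gi ^ k * gi ^ (m - k + 1)) = X ^ k * (g * gi) ^ k * gi ^ (m - k + 1) := by
          rw [mul_pow]; ring
      _ = _ := by rw [hg, one_pow, mul_one]
  rw [h1, add_mul, map_add, mul_sum, sum_mul, map_sum]
  have h3 : coeff m ((g + X * derivative R g) * ((X * g) ^ (m + 1) * a ^ j) * gi ^ (m + 1)) = 0 := by
    have : (g + X * derivative R g) * ((X * g) ^ (m + 1) * a ^ j) * gi ^ (m + 1) =
        X ^ (m + 1) * ((g + X * derivative R g) * (g ^ (m + 1) * a ^ j) * gi ^ (m + 1)) := by ring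
    rw [this, coeff_X_pow_mul', if_neg (by omega)]
  rw [h3, add_zero]
  have h4 : ∀ k ∈ range (m + 1), coeff m ((g + X * derivative R g) * (X * g) ^ k * gi ^ (m + 1)) =
      if m - k = 0 then 1 else 0 := by
    intro k hk
    have hk' : k ≤ m := by have := mem_range.mp hk; omega
    rw [mul_assoc, h2 k hk, ← coeff_deriv_mul_pow htf g gi hg (m - k)]
    have : (g + X * derivative R g) * (X ^ k * gi ^ (m - k + 1)) =
        X ^ k * ((g + X * derivative R g) * gi ^ (m - k + 1)) := by ring
    rw [this, coeff_X_pow_mul', if_pos hk']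
  rw [sum_congr rfl h4, sum_eq_single m]
  · simp
  · intro b hb hbm
    have := mem_range.mp hb
    rw [if_neg (by omega)]
  · intro h; exact absurd (mem_range.mpr (by omega)) h

end Groth.Agent.Krr.H451.Residue
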